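import Cfsg.Agent.H620.ExcIndex
import Cfsg.Agent.KFacts.RgdAutFacts
import Cfsg.Agent.KFacts.RgdAut

/-!
# Automorphisms and the double cosets of the normaliser of a long root group (helper112, for S4822)

`R` a root group datum generating the finite group `Y`, `r` a dominant root with `LR R r`, `P = PS T X (Ge r)` the
normaliser of `X r`.

* `card_orbit` : the number of points of a `B`-orbit on `Y / P`;
* `dcoset_stable` : an automorphism which fixes `B` and `P` fixes the double cosets of `P`, if every root which is not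
  orthogonal to `r` is conjugate under the stabiliser of `r` to a root with a `B`-orbit of unique size, and the
  roots orthogonal to `r` are conjugate;
* `dcoset_stable'` : for the automorphisms fixing `X r`.
-/

set_option autoImplicit false
set_option linter.unusedSectionVars false

namespace Cfsg.Agent.H112.EB

open CoxeterSystem Cfsg.Agent.ChevalleyStructure.CoxeterGeom Cfsg.Agent.Tits.Roots Cfsg.Agent.Tits.Core
  Cfsg.Agent.Tits.Exchange Cfsg.Agent.Nodes.Reps Cfsg.Agent.Nodes.BNOf Cfsg.Agent.Nodes.StabComb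
  Cfsg.Agent.Nodes.Bruhat Cfsg.Agent.Nodes.OppDec Cfsg.Agent.Nodes.PosPair Cfsg.Agent.Nodes.Coroot
  Cfsg.Agent.KFacts.RgdPar Cfsg.Agent.KFacts.RgdSL Cfsg.Agent.KFacts.RgdTI Cfsg.Agent.Nodes.LeviDec
  Cfsg.Agent.H400.TwoExc Cfsg.Agent.H620.ExcIndex Cfsg.Agent.KFacts.RgdAut

variable {I W Y : Type*} [Fintype I] [DecidableEq I] [Group W] [Group Y] {M : CoxeterMatrix I}
  {cs : CoxeterSystem M W} {A : I → I → ℤ} {h : IsCartan M A} {p : ℕ} {T : Subgroup Y} {n : I → Y}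
  {X : (I → ℤ) → Subgroup Y} {R : RGD cs h p T n X} [Finite W] [Finite Y]

/-- the size of the orbits of `B` -/
theorem card_orbit (hG : GG cs h T X = ⊤) {r : I → ℤ} (L : LR R r) (PF : Finset (I → ℤ))
    (hPF : ∀ t, t ∈ PF ↔ t ∈ RGD.Pos cs h) {w : W} {k : Y} (hk : Rp cs R.nsys w k) :
    Nat.card ↥(MulAction.orbit (RGD.B cs h T X) ((k : Y) : Y ⧸ PS T X (Ge cs h r))) =
      ∏ t ∈ PF.filter (fun t => cpr cs h t (rep cs h w r) < 0), Nat.card (X t) := by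
  classical
  set P := PS T X (Ge cs h r) with hP
  set s := rep cs h w r with hs
  have hcj : cj k P = PS T X (Ge cs h s) := by rw [hP, L.cj_Ge hk]
  have hstab : MulAction.stabilizer (RGD.B cs h T X) ((k : Y) : Y ⧸ P) =
      (PS T X (Ge cs h s)).subgroupOf (RGD.B cs h T X) := by
    ext b
    rw [MulAction.mem_stabilizer_iff, Subgroup.mem_subgroupOf, ← hcj, mem_cj]
    have h1 : b • ((k : Y) : Y ⧸ P) = (((b : Y) * k : Y) : Y ⧸ P) := rfl
    rw [h1, eq_comm, QuotientGroup.eq, ← mul_assoc]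
  have h1 : Nat.card ↥(MulAction.orbit (RGD.B cs h T X) ((k : Y) : Y ⧸ P)) =
      (PS T X (Ge cs h s)).relIndex (RGD.B cs h T X) := by
    rw [Subgroup.relIndex, ← hstab, MulAction.index_stabilizer]
    rfl
  rw [h1, ← Subgroup.inf_relIndex_left]
  have hLs : LR R s := by rw [hs]; exact L.act _
  have h2 := card_mul_relIndex (inf_le_left : RGD.B cs h T X ⊓ PS T X (Ge cs h s) ≤ RGD.B cs h T X)
  have h3 : ((PF : Finset (I → ℤ)) : Set (I → ℤ)) = RGD.Pos cs h := by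
    ext t; exact hPF t
  have h4 : ((PF.filter (fun t => 0 ≤ cpr cs h t s) : Finset (I → ℤ)) : Set (I → ℤ)) =
      {t | t ∈ RGD.Pos cs h ∧ 0 ≤ cpr cs h t s} := by
    ext t
    rw [Finset.mem_coe, Finset.mem_filter, hPF]
    rfl
  have h5 : Nat.card (RGD.B cs h T X) = Nat.card T * ∏ t ∈ PF, Nat.card (X t) := by
    rw [B_eq_PS, ← h3]
    exact card_PS R (by rw [h3]) (by rw [h3]; exact Nodes.Unique.closed_pos)
  have h6 : Nat.card ↥(RGD.B cs h T X ⊓ PS T X (Ge cs h s)) =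
      Nat.card T * ∏ t ∈ PF.filter (fun t => 0 ≤ cpr cs h t s), Nat.card (X t) := by
    rw [B_inf_Ge hG hLs, ← h4]
    refine card_PS R (by rw [h4]; exact fun t ht => ht.1) ?_
    rw [h4]
    rintro a ⟨ha, ha'⟩ b ⟨hb, hb'⟩ c hc
    refine ⟨Nodes.Unique.closed_pos a ha b hb c hc, ?_⟩
    obtain ⟨hc, m, i, j, hm, hi, hj, he⟩ := hc
    have h7 : m * cpr cs h c s = i * cpr cs h a s + j * cpr cs h b s := by
      rw [← cpr_smul cs h _ _ hLs.root, ← cpr_smul cs h _ _ hLs.root, ← cpr_smul cs h _ _ hLs.root,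
        ← cpr_add cs h _ _ hLs.root, he]
    have h8 : 0 ≤ m * cpr cs h c s := by rw [h7]; positivity
    exact nonneg_of_mul_nonneg_right h8 hm
  rw [Subgroup.inf_relIndex_left] at h2 ⊢
  rw [h5, h6, ← Finset.prod_filter_mul_prod_filter_not PF (fun t => 0 ≤ cpr cs h t s), ← mul_assoc] at h2
  have h7 : 0 < Nat.card T * ∏ t ∈ PF.filter (fun t => 0 ≤ cpr cs h t s), Nat.card (X t) :=
    Nat.mul_pos Nat.card_pos (Finset.prod_pos fun t _ => Nat.card_pos)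
  rw [Nat.eq_of_mul_eq_mul_left h7 h2]
  refine Finset.prod_congr ?_ fun _ _ => rfl
  ext t
  simp only [Finset.mem_filter, not_le]

/-- automorphisms fixing `B` and `P` -/
theorem aut_cell (hG : GG cs h T X = ⊤) {r : I → ℤ} (L : LR R r) (hd : ∀ i, 0 ≤ cpr cs h (sr i) r)
    (PF : Finset (I → ℤ)) (hPF : ∀ t, t ∈ PF ↔ t ∈ RGD.Pos cs h) (φ : MulAut Y)
    (hφB : ∀ y, y ∈ RGD.B cs h T X ↔ φ y ∈ RGD.B cs h T X)
    (hφP : ∀ y, y ∈ PS T X (Ge cs h r) ↔ φ y ∈ PS T X (Ge cs h r)) {w : W} {k : Y} (hk : Rp cs R.nsys w k) :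
    ∃ (w' : W) (k' : Y), Rp cs R.nsys w' k' ∧
      (∃ b ∈ PS T X (Ge cs h r), ∃ x ∈ PS T X (Ge cs h r), φ k = b * k' * x) ∧
      ∏ t ∈ PF.filter (fun t => cpr cs h t (rep cs h w r) < 0), Nat.card (X t) =
      ∏ t ∈ PF.filter (fun t => cpr cs h t (rep cs h w' r) < 0), Nat.card (X t) := by
  classical
  have hBP : RGD.B cs h T X ≤ PS T X (Ge cs h r) := B_le_Ge L.root hd
  obtain ⟨w', b₁, hb₁, k', hk', b₂, hb₂, e⟩ := (mem_GG R).1 (show φ k ∈ GG cs h T X by rw [hG]; trivial)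
  refine ⟨w', k', hk', ⟨b₁, hBP hb₁, b₂, hBP hb₂, e⟩, ?_⟩
  rw [← card_orbit hG L PF hPF hk, ← card_orbit hG L PF hPF hk']
  set P := PS T X (Ge cs h r) with hP
  -- the induced map
  have hwd : ∀ a b : Y, (QuotientGroup.leftRel P) a b → ((φ a : Y) : Y ⧸ P) = ((φ b : Y) : Y ⧸ P) := by
    intro a b hab
    rw [QuotientGroup.leftRel_apply] at hab
    rw [QuotientGroup.eq, ← map_inv, ← map_mul]
    exact (hφP _).1 hab
  let Φ : Y ⧸ P → Y ⧸ P := Quotient.lift (fun a : Y => ((φ a : Y) : Y ⧸ P)) hwd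
  have hΦ : ∀ a : Y, Φ (a : Y ⧸ P) = ((φ a : Y) : Y ⧸ P) := fun a => rfl
  have hinj : Function.Injective Φ := by
    intro a b hab
    obtain ⟨a, rfl⟩ := QuotientGroup.mk_surjective a
    obtain ⟨b, rfl⟩ := QuotientGroup.mk_surjective b
    rw [hΦ, hΦ, QuotientGroup.eq, ← map_inv, ← map_mul] at hab
    rw [QuotientGroup.eq]
    exact (hφP _).2 hab
  have himg : Φ '' (MulAction.orbit (RGD.B cs h T X) ((k : Y) : Y ⧸ P)) =
      MulAction.orbit (RGD.B cs h T X) ((k' : Y) : Y ⧸ P) := by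
    have hkk : ((φ k : Y) : Y ⧸ P) = ((b₁ * k' : Y) : Y ⧸ P) := by
      rw [e, eq_comm, QuotientGroup.eq]
      have : (b₁ * k')⁻¹ * (b₁ * k' * b₂) = b₂ := by group
      rw [this]
      exact hBP hb₂
    ext y
    constructor
    · rintro ⟨_, ⟨b, rfl⟩, rfl⟩
      refine ⟨⟨φ b, (hφB _).1 b.2⟩ * ⟨b₁, hb₁⟩, ?_⟩
      have e1 : (b • ((k : Y) : Y ⧸ P)) = (((b : Y) * k : Y) : Y ⧸ P) := rfl
      show (((φ b * b₁ * k' : Y) : Y ⧸ P)) = Φ (b • ((k : Y) : Y ⧸ P))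
      rw [e1, hΦ, map_mul]
      have e2 : ((φ b * φ k : Y) : Y ⧸ P) = (φ (b : Y)) • ((φ k : Y) : Y ⧸ P) := rfl
      rw [e2, hkk, mul_assoc]
      rfl
    · rintro ⟨b, rfl⟩
      have h1 : φ (φ⁻¹ ((b : Y) * b₁⁻¹)) = (b : Y) * b₁⁻¹ := MulAut.apply_inv_self _ φ _
      have h2 : φ⁻¹ ((b : Y) * b₁⁻¹) ∈ RGD.B cs h T X := by
        rw [hφB, h1]
        exact mul_mem b.2 (inv_mem hb₁)
      refine ⟨_, ⟨⟨_, h2⟩, rfl⟩, ?_⟩
      show Φ (((φ⁻¹ ((b : Y) * b₁⁻¹) * k : Y) : Y ⧸ P)) = (((b : Y) * k' : Y) : Y ⧸ P)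
      rw [hΦ, map_mul, h1]
      have e2 : (((b : Y) * b₁⁻¹ * φ k : Y) : Y ⧸ P) = ((b : Y) * b₁⁻¹) • ((φ k : Y) : Y ⧸ P) := rfl
      rw [e2, hkk]
      show (((b : Y) * b₁⁻¹ * (b₁ * k') : Y) : Y ⧸ P) = _
      congr 1
      group
  rw [← himg]
  exact (Nat.card_image_of_injective hinj _).symm

/-- `s`, `s'` are conjugate under the stabiliser of `r` -/
def Rel (cs : CoxeterSystem M W) (h : IsCartan M A) (r s s' : I → ℤ) : Prop :=
  ∃ v : W, rep cs h v r = r ∧ rep cs h v s = s'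

theorem Rel.refl (r s : I → ℤ) : Rel cs h r s s := ⟨1, by rw [map_one]; rfl, by rw [map_one]; rfl⟩

theorem Rel.symm {r s s' : I → ℤ} (H : Rel cs h r s s') : Rel cs h r s' s := by
  obtain ⟨v, h1, h2⟩ := H
  refine ⟨v⁻¹, ?_, ?_⟩
  · conv_lhs => rw [← h1]
    exact rep_inv_apply cs h v r
  · rw [← h2]
    exact rep_inv_apply cs h v s

theorem Rel.trans {r s s' s'' : I → ℤ} (H : Rel cs h r s s') (H' : Rel cs h r s' s'') : Rel cs h r s s'' := by
  obtain ⟨v, h1, h2⟩ := H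
  obtain ⟨v', h1', h2'⟩ := H'
  exact ⟨v' * v, by rw [rep_mul_apply, h1, h1'], by rw [rep_mul_apply, h2, h2']⟩

/-- in the same double coset -/
def DC (P : Subgroup Y) (y y' : Y) : Prop := ∃ a ∈ P, ∃ b ∈ P, y' = a * y * b

theorem DC.symm {P : Subgroup Y} {y y' : Y} (H : DC P y y') : DC P y' y := by
  obtain ⟨a, ha, b, hb, rfl⟩ := H
  exact ⟨a⁻¹, inv_mem ha, b⁻¹, inv_mem hb, by group⟩

theorem DC.trans {P : Subgroup Y} {y y' y'' : Y} (H : DC P y y') (H' : DC P y' y'') : DC P y y'' := by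
  obtain ⟨a, ha, b, hb, rfl⟩ := H
  obtain ⟨c, hc, d, hd, rfl⟩ := H'
  exact ⟨c * a, mul_mem hc ha, b * d, mul_mem hb hd, by group⟩

theorem DC.map {P : Subgroup Y} {y y' : Y} (H : DC P y y') (φ : MulAut Y) (hφ : ∀ y, y ∈ P ↔ φ y ∈ P) :
    DC P (φ y) (φ y') := by
  obtain ⟨a, ha, b, hb, rfl⟩ := H
  exact ⟨φ a, (hφ a).1 ha, φ b, (hφ b).1 hb, by rw [map_mul, map_mul]⟩

theorem dc_of_rel (hG : GG cs h T X = ⊤) {r : I → ℤ} (L : LR R r) {w w' : W} {k k' : Y} (hk : Rp cs R.nsys w k)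
    (hk' : Rp cs R.nsys w' k') (H : Rel cs h r (rep cs h w r) (rep cs h w' r)) :
    DC (PS T X (Ge cs h r)) k k' := by
  obtain ⟨v, h1, h2⟩ := H
  obtain ⟨l, hl⟩ := exists_rp cs R.nsys v
  have hmem : ∀ {v : W} {l : Y}, Rp cs R.nsys v l → rep cs h v r = r → l ∈ PS T X (Ge cs h r) := by
    intro v l hl hv
    rw [← L.normalizer, hG, inf_top_eq]
    exact (L.mem_normalizer_iff hl).2 hv
  refine ⟨l, hmem hl h1, (l * k)⁻¹ * k', ?_, by group⟩
  refine hmem ((hl.mul hk).inv.mul hk') ?_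
  rw [rep_mul_apply, ← h2, ← rep_mul_apply cs h v w]
  exact rep_inv_apply cs h (v * w) r

variable {r : I → ℤ} {O : Finset (I → ℤ)} {wt : I → ℕ} {K : (I → ℤ) → ℕ}

/-- **automorphisms fixing `B` and `P` fix the double cosets of `P`** -/
theorem dcoset_stable (hG : GG cs h T X = ⊤) (L : LR R r) (hd : ∀ i, 0 ≤ cpr cs h (sr i) r)
    (D : Tbl cs h r O wt K) {q : ℕ} (hq : 1 < q) (hwt : ∀ i, Nat.card (X (sr i)) = q ^ wt i)
    (H1 : ∀ s ∈ O, cpr cs h s r ≠ 0 → ∃ s₀ ∈ O, Rel cs h r s s₀ ∧ ∀ s' ∈ O, K s' = K s₀ → s' = s₀)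
    (H2 : ∀ s ∈ O, ∀ s' ∈ O, cpr cs h s r = 0 → cpr cs h s' r = 0 → Rel cs h r s s')
    (φ : MulAut Y) (hφB : ∀ y, y ∈ RGD.B cs h T X ↔ φ y ∈ RGD.B cs h T X)
    (hφP : ∀ y, y ∈ PS T X (Ge cs h r) ↔ φ y ∈ PS T X (Ge cs h r)) (y : Y) :
    DC (PS T X (Ge cs h r)) y (φ y) := by
  classical
  have hf : (RGD.Pos cs h).Finite := finite_pos
  have hPF : ∀ t, t ∈ hf.toFinset ↔ t ∈ RGD.Pos cs h := fun t => by simp
  have hBP : RGD.B cs h T X ≤ PS T X (Ge cs h r) := B_le_Ge L.root hd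
  have hdec : ∀ y : Y, ∃ (w : W) (k : Y), Rp cs R.nsys w k ∧ DC (PS T X (Ge cs h r)) k y := by
    intro y
    obtain ⟨w, b₁, hb₁, k, hk, b₂, hb₂, e⟩ := (mem_GG R).1 (show y ∈ GG cs h T X by rw [hG]; trivial)
    exact ⟨w, k, hk, b₁, hBP hb₁, b₂, hBP hb₂, e⟩
  -- the first case
  have case1 : ∀ (φ : MulAut Y), (∀ y, y ∈ RGD.B cs h T X ↔ φ y ∈ RGD.B cs h T X) →
      (∀ y, y ∈ PS T X (Ge cs h r) ↔ φ y ∈ PS T X (Ge cs h r)) → ∀ {w : W} {k y : Y}, Rp cs R.nsys w k →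
      DC (PS T X (Ge cs h r)) k y → cpr cs h (rep cs h w r) r ≠ 0 → DC (PS T X (Ge cs h r)) y (φ y) := by
    intro φ hφB hφP w k y hk hky hc
    obtain ⟨s₀, hs₀, hrel, huniq⟩ := H1 _ ((D.orbit _).2 ⟨w, rfl⟩) hc
    obtain ⟨w₀, hw₀⟩ := (D.orbit s₀).1 hs₀
    obtain ⟨k₀, hk₀⟩ := exists_rp cs R.nsys w₀
    obtain ⟨w', k', hk', ⟨b, hb, x, hx, e⟩, hcard⟩ := aut_cell hG L hd hf.toFinset hPF φ hφB hφP hk₀
    have e1 := D.FF_eq R L.root hd (PF := hf.toFinset) hPF (q := q) (by omega) hwt (rep cs h w₀ r)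
      ((D.orbit _).2 ⟨w₀, rfl⟩)
    have e2 := D.FF_eq R L.root hd (PF := hf.toFinset) hPF (q := q) (by omega) hwt (rep cs h w' r)
      ((D.orbit _).2 ⟨w', rfl⟩)
    unfold FF at e1 e2
    rw [e1, e2] at hcard
    have hK := Nat.pow_right_injective hq hcard
    have hs' : rep cs h w' r = s₀ := huniq _ ((D.orbit _).2 ⟨w', rfl⟩) (by rw [← hw₀]; exact hK.symm)
    -- `k₀` and `k'` are in the same double coset
    have d1 : DC (PS T X (Ge cs h r)) k' k₀ := dc_of_rel hG L hk' hk₀ (by rw [hs', hw₀]; exact Rel.refl r s₀)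
    have d2 : DC (PS T X (Ge cs h r)) k k₀ := dc_of_rel hG L hk hk₀ (by rw [hw₀]; exact hrel)
    have d3 : DC (PS T X (Ge cs h r)) k' (φ k₀) := ⟨b, hb, x, hx, e⟩
    have d4 : DC (PS T X (Ge cs h r)) y k₀ := hky.symm.trans d2
    exact (d4.trans d1.symm).trans (d3.trans (d4.symm.map φ hφP))
  obtain ⟨w, k, hk, hky⟩ := hdec y
  by_cases hc : cpr cs h (rep cs h w r) r = 0
  · obtain ⟨w', k', hk', hky'⟩ := hdec (φ y)
    by_cases hc' : cpr cs h (rep cs h w' r) r = 0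
    · have d1 := dc_of_rel hG L hk hk' (H2 _ ((D.orbit _).2 ⟨w, rfl⟩) _ ((D.orbit _).2 ⟨w', rfl⟩) hc hc')
      exact (hky.symm.trans d1).trans hky'
    · have hinv : ∀ (Q : Subgroup Y), (∀ y, y ∈ Q ↔ φ y ∈ Q) → ∀ y, y ∈ Q ↔ φ⁻¹ y ∈ Q := by
        intro Q hQ y
        rw [hQ (φ⁻¹ y), MulAut.apply_inv_self]
      have := case1 φ⁻¹ (hinv _ hφB) (hinv _ hφP) hk' hky' hc'
      rw [MulAut.inv_apply_self] at this
      exact this.symm
  · exact case1 φ hφB hφP hk hky hc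

section Main

variable [hp : Fact p.Prime]

/-- an automorphism fixing `X r`, adjusted by an element of `P` -/
theorem exists_adjust (hG : GG cs h T X = ⊤) (L : LR R r) (hd : ∀ i, 0 ≤ cpr cs h (sr i) r) (φ : MulAut Y)
    (hφ : Fix φ (X r)) : ∃ x ∈ PS T X (Ge cs h r), Fix (MulAut.conj x * φ) (RGD.B cs h T X) ∧
      Fix (MulAut.conj x * φ) (PS T X (Ge cs h r)) := by
  classical
  have hN : Subgroup.normalizer (X r : Set Y) = PS T X (Ge cs h r) := by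
    rw [← L.normalizer, hG, inf_top_eq]
  have hBP : RGD.B cs h T X ≤ PS T X (Ge cs h r) := B_le_Ge L.root hd
  have hφP' : Fix φ (PS T X (Ge cs h r)) := by
    rw [← hN]
    exact hφ.normalizer
  have hφP : ∀ y, y ∈ PS T X (Ge cs h r) ↔ φ y ∈ PS T X (Ge cs h r) := fun y => (hφP' y).symm
  -- the Sylow subgroup `U`
  obtain ⟨S, hS⟩ := Cfsg.Agent.KFacts.RgdAutFacts.exists_sylow R hG
  have hUB : RGD.Sup X (RGD.Pos cs h) ≤ RGD.B cs h T X := by
    rw [B_eq_PS]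
    exact Sup_le_PS
  have hSP : (S : Subgroup Y) ≤ PS T X (Ge cs h r) := by rw [hS]; exact hUB.trans hBP
  have e1 : ∀ z : Y, z ∈ ((φ • S : Sylow p Y) : Subgroup Y) ↔ φ.symm z ∈ (S : Subgroup Y) := by
    intro z
    rw [Sylow.pointwise_smul_def, Subgroup.mem_pointwise_smul_iff_inv_smul_mem]
    rfl
  have hSφ : ((φ • S : Sylow p Y) : Subgroup Y) ≤ PS T X (Ge cs h r) := by
    intro y hy
    have h2 := (hφP _).1 (hSP ((e1 y).1 hy))
    rwa [MulEquiv.apply_symm_apply] at h2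
  obtain ⟨x, hx⟩ := MulAction.exists_smul_eq (PS T X (Ge cs h r)) (S.subtype hSP) ((φ • S).subtype hSφ)
  have e2 : ∀ y : PS T X (Ge cs h r), (y : Y) ∈ (S : Subgroup Y) ↔
      ((x * y * x⁻¹ : PS T X (Ge cs h r)) : Y) ∈ ((φ • S : Sylow p Y) : Subgroup Y) := by
    intro y
    have h1 : (x * y * x⁻¹) ∈ ((x • S.subtype hSP : Sylow p (PS T X (Ge cs h r))) :
        Subgroup (PS T X (Ge cs h r))) ↔ y ∈ (S.subtype hSP : Subgroup (PS T X (Ge cs h r))) := by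
      rw [Sylow.coe_subgroup_smul]
      constructor
      · intro hy
        rw [Subgroup.mem_pointwise_smul_iff_inv_smul_mem] at hy
        simpa [mul_assoc] using hy
      · intro hy
        rw [Subgroup.mem_pointwise_smul_iff_inv_smul_mem]
        simpa [mul_assoc] using hy
    rw [hx] at h1
    exact h1.symm
  have hfix : Fix (MulAut.conj (x : Y)⁻¹ * φ) (S : Subgroup Y) := by
    intro y
    have key : ∀ y ∈ PS T X (Ge cs h r), y ∈ (S : Subgroup Y) ↔ (x : Y)⁻¹ * φ y * x ∈ (S : Subgroup Y) := by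
      intro y hy
      have hm : (x : Y)⁻¹ * φ y * x ∈ PS T X (Ge cs h r) :=
        mul_mem (mul_mem (inv_mem x.2) ((hφP y).1 hy)) x.2
      have h1 := e2 ⟨_, hm⟩
      have h2 : ((x * ⟨_, hm⟩ * x⁻¹ : PS T X (Ge cs h r)) : Y) = φ y := by
        show (x : Y) * ((x : Y)⁻¹ * φ y * x) * (x : Y)⁻¹ = φ y
        group
      rw [h2, e1, MulEquiv.symm_apply_apply] at h1
      exact h1.symm
    have e3 : (MulAut.conj (x : Y)⁻¹ * φ) y = (x : Y)⁻¹ * φ y * x := by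
      rw [MulAut.mul_apply, MulAut.conj_apply, inv_inv]
    rw [e3]
    by_cases hy : y ∈ PS T X (Ge cs h r)
    · exact (key y hy).symm
    · constructor
      swap
      · intro h1
        exact absurd (hSP h1) hy
      · intro h1
        exfalso
        apply hy
        rw [hφP y]
        have h2 := mul_mem (mul_mem x.2 (hSP h1)) (inv_mem x.2)
        have h3 : (x : Y) * ((x : Y)⁻¹ * φ y * x) * (x : Y)⁻¹ = φ y := by group
        rwa [h3] at h2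
  rw [hS] at hfix
  refine ⟨(x : Y)⁻¹, inv_mem x.2, fix_B R hG hfix, ?_⟩
  intro y
  rw [hφP y, MulAut.mul_apply, MulAut.conj_apply, inv_inv]
  constructor
  swap
  · intro h1
    exact mul_mem (mul_mem (inv_mem x.2) h1) x.2
  · intro h1
    have h2 := mul_mem (mul_mem x.2 h1) (inv_mem x.2)
    have h3 : (x : Y) * ((x : Y)⁻¹ * φ y * x) * (x : Y)⁻¹ = φ y := by group
    rwa [h3] at h2

/-- **automorphisms fixing `X r` fix the double cosets of `P`** -/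
theorem dcoset_stable' (hG : GG cs h T X = ⊤) (L : LR R r) (hd : ∀ i, 0 ≤ cpr cs h (sr i) r)
    (D : Tbl cs h r O wt K) {q : ℕ} (hq : 1 < q) (hwt : ∀ i, Nat.card (X (sr i)) = q ^ wt i)
    (H1 : ∀ s ∈ O, cpr cs h s r ≠ 0 → ∃ s₀ ∈ O, Rel cs h r s s₀ ∧ ∀ s' ∈ O, K s' = K s₀ → s' = s₀)
    (H2 : ∀ s ∈ O, ∀ s' ∈ O, cpr cs h s r = 0 → cpr cs h s' r = 0 → Rel cs h r s s')
    (φ : MulAut Y) (hφ : Fix φ (X r)) (y : Y) : DC (PS T X (Ge cs h r)) y (φ y) := by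
  obtain ⟨x, hx, h1, h2⟩ := exists_adjust hG L hd φ hφ
  have h3 := dcoset_stable hG L hd D hq hwt H1 H2 _ (fun y => (h1 y).symm) (fun y => (h2 y).symm) y
  refine h3.trans ⟨x⁻¹, inv_mem hx, x, hx, ?_⟩
  rw [MulAut.mul_apply, MulAut.conj_apply]
  group

end Main

end Cfsg.Agent.H112.EB
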