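import Cfsg.Agent.H112.EB.Ext
import Cfsg.Agent.H620.RowChev
import Cfsg.Agent.H326.EB.Chev
import Cfsg.Agent.KFacts.RgdKap
import Cfsg.Agent.KFacts.RgdLieCharP
import Cfsg.Agent.S1077

/-!
# The hypothesis of `extB_of_perm` for `E₆(q)` (helper112, for S4822)

* `chkE` : the kernel check; `rel_base` : the classes of roots under the stabiliser of the highest root;
* `perm_E6` : the hypothesis of `extB_of_perm`, for `p` dividing `|E₆(q)|`, prime to `q`, `q - 1`, `q⁵ - 1`.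
-/

set_option autoImplicit false
set_option linter.unusedSectionVars false

namespace Cfsg.Agent.H112.EB

open CoxeterSystem Cfsg.Agent.ChevalleyStructure.CoxeterGeom Cfsg.Agent.Tits.Roots Cfsg.Agent.Tits.Core
  Cfsg.Agent.Nodes.Reps Cfsg.Agent.Nodes.BNOf Cfsg.Agent.Nodes.Coroot Cfsg.Agent.Nodes.RGDChev
  Cfsg.Agent.KFacts.RgdTI Cfsg.Agent.KFacts.RgdPar Cfsg.Agent.Nodes.Bruhat Cfsg.Agent.KFacts.RgdCent
open Cfsg Cfsg.Lie Cfsg.Agent.H620.ExcIndex Cfsg.Agent.H620.ChevChk Cfsg.Agent.H620.ChevTbl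
  Cfsg.Agent.H620.ChevCnt Cfsg.Agent.H620.RowChev
open Cfsg.Agent.ChevalleyStructure Cfsg.Agent.ChevalleyStructure.RootVec
  Cfsg.Agent.ChevalleyStructure.NPerm Cfsg.Agent.ChevalleyStructure.CoxeterGeomTypes
open Cfsg.Agent.KFacts.RgdChevCoord (TT XX nc)

universe u

/-- the base of a class -/
def bs (k : ℤ) : ℕ := if k = 2 then 71 else if k = 1 then 70 else if k = 0 then 60 else if k = -1 then 1 else 0

def ms (r : ℕ) : ℕ :=
  if carI chevE6 71 r < 0 then 21 - KK 1 11 (FI chevE6 cE r) else KK 1 11 (FI chevE6 cE r)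

def stepE (i r : ℕ) : Bool := decide (chevE6.cartan i 71 = 0) &&
  decide (bs (carI chevE6 71 (chevE6.reflectRoot i r)) = bs (carI chevE6 71 r)) &&
  decide (ms (chevE6.reflectRoot i r) < ms r)

def chkE : Bool := (List.range 72).all fun r => decide (r = bs (carI chevE6 71 r)) || (List.range 6).any fun i =>
  stepE i r

def chkU : Bool := (List.range 72).all fun r => decide (carI chevE6 71 r = 0) ||
  (List.range 72).all fun r' => decide (r' = bs (carI chevE6 71 r)) ||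
    decide (KK 1 11 (FI chevE6 cE r') ≠ KK 1 11 (FI chevE6 cE (bs (carI chevE6 71 r))))

theorem chkE_eq : chkE = true := by decide +kernel
theorem chkU_eq : chkU = true := by decide +kernel

theorem n6 (i j : Fin 6) : CoxeterMatrix.E₆ i j ≠ 4 ∧ CoxeterMatrix.E₆ i j ≠ 6 := by
  fin_cases i <;> fin_cases j <;> constructor <;> intro h <;> revert h <;> decide

theorem nroots_E6 : chevE6.nroots = 72 := by decide +kernel

theorem bs_lt (k : ℤ) : bs k < chevE6.nroots := by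
  rw [nroots_E6]
  unfold bs
  split_ifs <;> norm_num

section

variable {W : Type*} [Group W] (cs : CoxeterSystem CoxeterMatrix.E₆ W) [Finite W]

theorem rel_base : ∀ (m : ℕ) (r : ℕ), r < chevE6.nroots → ms r ≤ m →
    Rel cs isTy_E6.isCartan (vec chevE6 6 71) (vec chevE6 6 r) (vec chevE6 6 (bs (carI chevE6 71 r))) := by
  intro m
  induction m with
  | zero =>
    intro r hr hm
    have h1 := (List.all_eq_true.1 chkE_eq) r (List.mem_range.2 (by rwa [← nroots_E6]))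
    rw [Bool.or_eq_true] at h1
    rcases h1 with h1 | h1
    · have h2 := of_decide_eq_true h1
      rw [← h2]
      exact Rel.refl _ _
    · obtain ⟨i, hi, h2⟩ := List.any_eq_true.1 h1
      unfold stepE at h2
      rw [Bool.and_eq_true, Bool.and_eq_true] at h2
      have h3 := of_decide_eq_true h2.2
      omega
  | succ m ih =>
    intro r hr hm
    have h1 := (List.all_eq_true.1 chkE_eq) r (List.mem_range.2 (by rwa [← nroots_E6]))
    rw [Bool.or_eq_true] at h1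
    rcases h1 with h1 | h1
    · have h2 := of_decide_eq_true h1
      rw [← h2]
      exact Rel.refl _ _
    · obtain ⟨i, hi, h2⟩ := List.any_eq_true.1 h1
      unfold stepE at h2
      rw [Bool.and_eq_true, Bool.and_eq_true] at h2
      obtain ⟨⟨h3, h4⟩, h5⟩ := h2
      have h3 := of_decide_eq_true h3
      have h4 := of_decide_eq_true h4
      have h5 := of_decide_eq_true h5
      have hi' : i < 6 := List.mem_range.1 hi
      have hlt : chevE6.reflectRoot i r < chevE6.nroots :=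
        reflectRoot_lt isTy_E6.inList (lt_rank isTy_E6 ⟨i, hi'⟩) hr
      have h6 := ih _ hlt (by omega)
      rw [h4] at h6
      refine Rel.trans ⟨cs.simple ⟨i, hi'⟩, ?_, rep_vec isTy_E6 cs ⟨i, hi'⟩ hr⟩ h6
      have h71 : (71 : ℕ) < chevE6.nroots := by rw [nroots_E6]; norm_num
      rw [rep_simple_eq, pairing_vec isTy_E6 ⟨i, hi'⟩ h71]
      show vec chevE6 6 71 - chevE6.cartan i 71 • sr ⟨i, hi'⟩ = _
      rw [h3, zero_smul, sub_zero]

theorem rel_of {r : ℕ} (hr : r < chevE6.nroots) :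
    Rel cs isTy_E6.isCartan (vec chevE6 6 71) (vec chevE6 6 r) (vec chevE6 6 (bs (carI chevE6 71 r))) :=
  rel_base cs _ r hr le_rfl

end

theorem idx_dvd {q p N : ℕ} (hpp : p.Prime) (hq2 : 2 ≤ q) (hpq : ¬ p ∣ q) (hq : ¬ p ∣ q - 1)
    (h5 : ¬ p ∣ q ^ 5 - 1) (hN : N * ((q ^ 1 - 1) * (q ^ 3 - 1) * (q ^ 4 - 1)) = (q ^ 8 - 1) * (q ^ 9 - 1) * (q ^ 12 - 1))
    (hc : p ∣ q ^ 36 * (q ^ 2 - 1) * (q ^ 5 - 1) * (q ^ 6 - 1) * (q ^ 8 - 1) * (q ^ 9 - 1) * (q ^ 12 - 1)) :
    p ∣ N := by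
  have hq1 : 1 ≤ q := by omega
  have c1 : ∀ k, ((q ^ k - 1 : ℕ) : ℤ) = (q : ℤ) ^ k - 1 := fun k => by
    rw [Nat.cast_sub (Nat.one_le_pow _ _ (by omega))]; push_cast; ring
  -- `N (q - 1) = (q⁴ + 1)(q⁶ + q³ + 1)(q¹² - 1)`
  have e1 : N * (q - 1) = (q ^ 4 + 1) * (q ^ 6 + q ^ 3 + 1) * (q ^ 12 - 1) := by
    have h1 : 0 < (q ^ 3 - 1) * (q ^ 4 - 1) := by
      have := Nat.one_lt_pow (n := 3) (by norm_num) (show 1 < q by omega)
      have := Nat.one_lt_pow (n := 4) (by norm_num) (show 1 < q by omega)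
      exact Nat.mul_pos (by omega) (by omega)
    apply Nat.eq_of_mul_eq_mul_right h1
    calc N * (q - 1) * ((q ^ 3 - 1) * (q ^ 4 - 1)) = N * ((q ^ 1 - 1) * (q ^ 3 - 1) * (q ^ 4 - 1)) := by
          rw [pow_one]; ring
      _ = (q ^ 8 - 1) * (q ^ 9 - 1) * (q ^ 12 - 1) := hN
      _ = _ := by
        zify
        rw [c1, c1, c1, c1, c1]
        ring
  have e8 : q ^ 8 - 1 = (q ^ 4 + 1) * (q ^ 4 - 1) := by
    zify; rw [c1, c1]; ring
  have e9 : q ^ 9 - 1 = (q ^ 6 + q ^ 3 + 1) * (q ^ 3 - 1) := by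
    zify; rw [c1, c1]; ring
  have d12 : ∀ k, k ∣ 12 → p ∣ q ^ k - 1 → p ∣ q ^ 12 - 1 := by
    intro k hk h
    obtain ⟨m, hm⟩ := hk
    refine h.trans ?_
    have := Nat.sub_dvd_pow_sub_pow (q ^ k) 1 m
    rwa [one_pow, ← pow_mul, ← hm] at this
  have h2 : p ∣ (q ^ 4 + 1) * (q ^ 6 + q ^ 3 + 1) * (q ^ 12 - 1) := by
    rcases hpp.dvd_mul.1 hc with h | h
    swap
    · exact dvd_mul_of_dvd_right h _
    rcases hpp.dvd_mul.1 h with h | h
    swap
    · rw [e9] at h
      rcases hpp.dvd_mul.1 h with h | h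
      · exact dvd_mul_of_dvd_left (dvd_mul_of_dvd_right h _) _
      · exact dvd_mul_of_dvd_right (d12 3 (by norm_num) h) _
    rcases hpp.dvd_mul.1 h with h | h
    swap
    · rw [e8] at h
      rcases hpp.dvd_mul.1 h with h | h
      · exact dvd_mul_of_dvd_left (dvd_mul_of_dvd_left h _) _
      · exact dvd_mul_of_dvd_right (d12 4 (by norm_num) h) _
    rcases hpp.dvd_mul.1 h with h | h
    swap
    · exact dvd_mul_of_dvd_right (d12 6 (by norm_num) h) _
    rcases hpp.dvd_mul.1 h with h | h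
    swap
    · exact absurd h h5
    rcases hpp.dvd_mul.1 h with h | h
    swap
    · exact dvd_mul_of_dvd_right (d12 2 (by norm_num) h) _
    · exact absurd (hpp.dvd_of_dvd_pow h) hpq
  rw [← e1] at h2
  exact (hpp.dvd_mul.1 h2).resolve_right hq

theorem core_E6 {p : ℕ} [hpp : Fact p.Prime] {r : ℕ} [hr : Fact r.Prime] {K : Type} [Field K] [Fintype K]
    [CharP K r] [IsSimpleGroup ↥(chevE6.group K)] (hrp : r ≠ p) (hq : ¬ p ∣ Fintype.card K - 1)
    (h5 : ¬ p ∣ Fintype.card K ^ 5 - 1) (hpS : p ∣ Nat.card ↥(chevE6.group K)) {A : Type*} [Group A]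
    (f : ↥(chevE6.group K) →* A) (hf : Function.Injective f) (hn : f.range.Normal) :
    ∃ X : Subgroup ↥(chevE6.group K), p ∣ X.index ∧ X ≠ ⊤ ∧
      ∃ Y : Subgroup A, Y.comap f = X ∧ f.range ⊔ Y = ⊤ ∧
        ∀ s : ↥(chevE6.group K), ∀ y ∈ Y, ∃ x₁ ∈ X, ∃ x₂ ∈ X, ∃ s' : ↥(chevE6.group K), f s' = y * f s * y⁻¹ ∧
          s' = x₁ * s * x₂ := by
  classical
  let cs := CoxeterMatrix.E₆.toCoxeterSystem
  have hW : Finite CoxeterMatrix.E₆.Group := finite_W isTy_E6 cs
  have R := rgd (K := K) isTy_E6 cs r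
  have hG1 := G1_eq_top (K := K) isTy_E6 cs
  have hG : GG cs isTy_E6.isCartan (TT chevE6 K) (XX chevE6 6 K) = ⊤ := KFacts.Mult.RGDW.GG_eq_top_of_G1 hG1
  have h71 : (71 : ℕ) < chevE6.nroots := by rw [nroots_E6]; norm_num
  have L := lr (K := K) isTy_E6 cs r h71 chkL_E6
  have hd := dom isTy_E6 cs h71 chkD_E6
  have Tb := tbl isTy_E6 cs h71 (by decide +kernel) (by decide +kernel) chk_E6
  have hcX : ∀ i : Fin 6, Nat.card (XX chevE6 6 K (sr i)) = Fintype.card K ^ 1 := by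
    intro i
    rw [← vec_simple isTy_E6 i, ← Nat.card_eq_fintype_card, pow_one]
    exact GenExc.Chev.card_XX isTy_E6 (simple_lt isTy_E6.inList (lt_rank isTy_E6 i))
  have hq2 : 2 ≤ Fintype.card K := Fintype.one_lt_card
  -- all roots are long
  have hall : ∀ x, IsRoot cs isTy_E6.isCartan x → x ∈ OO chevE6 6 [] 1 := by
    intro x hx
    obtain ⟨k, hk, rfl⟩ := (isRoot_iff isTy_E6 cs x).1 hx
    exact Finset.mem_image.2 ⟨k, Finset.mem_filter.2 ⟨Finset.mem_range.2 hk, rfl⟩, rfl⟩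
  have hLR : ∀ x, IsRoot cs isTy_E6.isCartan x → LR R x := by
    intro x hx
    obtain ⟨w, hw⟩ := (Tb.orbit x).1 (hall x hx)
    rw [← hw]
    exact L.act w
  have hZ : ∀ c : ↥(chevE6.group K), (∀ u ∈ RGD.Sup (XX chevE6 6 K) (RGD.Pos cs isTy_E6.isCartan), c * u = u * c) ↔
      c ∈ XX chevE6 6 K (vec chevE6 6 71) := by
    have hc0 : Subgroup.center ↥(chevE6.group K) = ⊥ := S1077.center_group_eq_bot isTy_E6.inList
    have hN : NoCent cs isTy_E6.isCartan (TT chevE6 K) (XX chevE6 6 K) :=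
      KFacts.RgdLieCharP.noCent_of_center hG1 hc0
    have hconn : Cfsg.Agent.KFacts.RgdCharP.Conn CoxeterMatrix.E₆ := KFacts.RgdLieCharP.conn_of_simple R hG1 hc0
    have hconn' : Cfsg.Agent.KFacts.SLRow.Def.Conn CoxeterMatrix.E₆ := by
      intro J hJ hJc
      obtain ⟨a, ha, b, hb, hab⟩ := hconn J hJ (by rintro rfl; simp at hJc)
      exact ⟨a, ha, b, hb, hab⟩
    have hsl : KFacts.RgdSL.SL cs isTy_E6.isCartan :=
      KFacts.RgdKap.sl_of (fun i j => (n6 i j).1) (fun i j => (n6 i j).2)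
    have hO : ∀ x, IsRoot cs isTy_E6.isCartan x → KFacts.RgdOdd.Orth cs isTy_E6.isCartan x := fun x hx =>
      KFacts.RgdKap.orth_of (fun i j => (n6 i j).1) (fun i j => (n6 i j).2) hconn' hx
    have hdd : ∀ a ∈ RGD.Pos cs isTy_E6.isCartan, 0 ≤ cpr cs isTy_E6.isCartan a (vec chevE6 6 71) :=
      fun a ha => cpr_nonneg_of_dom L.root hd ha.2
    have hst : vec chevE6 6 71 ∈ Star cs isTy_E6.isCartan (RGD.Pos cs isTy_E6.isCartan) := by
      refine ⟨L.root, fun a ha => ?_⟩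
      rw [hsl _ _ L.root ha.1]
      exact hdd a ha
    intro c
    constructor
    · intro hc
      have h1 := KFacts.RgdAutFacts.center_U R hLR hN hconn (c := c) (by rw [hG]; trivial)
        fun a ha v hv => hc v (RGD.le_Sup ha hv)
      have h2 : RGD.Sup (XX chevE6 6 K) (Star cs isTy_E6.isCartan (RGD.Pos cs isTy_E6.isCartan)) ≤
          XX chevE6 6 K (vec chevE6 6 71) := by
        refine RGD.Sup_le fun s hs' => ?_
        rw [KFacts.RgdAutFacts.dom_unique hsl hO hs' hst]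
      exact h2 h1
    · intro hc u hu
      have h1 : u ∈ RGD.Sup (XX chevE6 6 K) (Ge cs isTy_E6.isCartan (vec chevE6 6 71)) :=
        RGD.Sup_mono (S := RGD.Pos cs isTy_E6.isCartan) (S' := Ge cs isTy_E6.isCartan (vec chevE6 6 71))
          (fun a ha => ⟨ha.1, hdd a ha⟩) hu
      exact (L.comm' h1 hc).symm
  obtain ⟨Q, h1, h2, h3⟩ := ext_of hG L hd hZ Tb (q := Fintype.card K) (by omega) hcX (by
    intro s hs hne
    obtain ⟨k, hk, rfl⟩ := (isRoot_iff isTy_E6 cs s).1 (by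
      obtain ⟨w, hw⟩ := (Tb.orbit s).1 hs
      rw [← hw]
      exact L.root.act w)
    refine ⟨_, hall _ (isRoot_vec isTy_E6 cs (bs_lt (carI chevE6 71 k))), rel_of cs hk, ?_⟩
    intro s' hs' hK
    obtain ⟨k', hk', rfl⟩ := (isRoot_iff isTy_E6 cs s').1 (by
      obtain ⟨w, hw⟩ := (Tb.orbit s').1 hs'
      rw [← hw]
      exact L.root.act w)
    have h1 := (List.all_eq_true.1 chkU_eq) k (List.mem_range.2 (by rwa [← nroots_E6]))
    rw [Bool.or_eq_true] at h1
    rcases h1 with h1 | h1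
    · exfalso
      apply hne
      rw [KFacts.ChevTwoInst.cpr_vec isTy_E6 cs h71 k hk]
      rw [← of_decide_eq_true h1]
      exact (KFacts.ChevTwoInst.sum_map_range _ _).symm
    · have h2 := (List.all_eq_true.1 h1) k' (List.mem_range.2 (by rwa [← nroots_E6]))
      rw [Bool.or_eq_true] at h2
      rcases h2 with h2 | h2
      · rw [of_decide_eq_true h2]
      · exfalso
        apply of_decide_eq_true h2
        have h3 : KK 1 11 (Fv cE (vec chevE6 6 k')) = KK 1 11 (Fv cE (vec chevE6 6 (bs (carI chevE6 71 k)))) := hK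
        rwa [Fv_vec isTy_E6, Fv_vec isTy_E6] at h3) (by
    intro s hs s' hs' hc hc'
    obtain ⟨k, hk, rfl⟩ := (isRoot_iff isTy_E6 cs s).1 (by
      obtain ⟨w, hw⟩ := (Tb.orbit s).1 hs
      rw [← hw]
      exact L.root.act w)
    obtain ⟨k', hk', rfl⟩ := (isRoot_iff isTy_E6 cs s').1 (by
      obtain ⟨w, hw⟩ := (Tb.orbit s').1 hs'
      rw [← hw]
      exact L.root.act w)
    rw [KFacts.ChevTwoInst.cpr_vec isTy_E6 cs h71 k hk] at hc
    rw [KFacts.ChevTwoInst.cpr_vec isTy_E6 cs h71 k' hk'] at hc'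
    have e : carI chevE6 71 k = 0 := by
      rw [← hc]
      exact KFacts.ChevTwoInst.sum_map_range _ _
    have e' : carI chevE6 71 k' = 0 := by
      rw [← hc']
      exact KFacts.ChevTwoInst.sum_map_range _ _
    have h1 := rel_of cs hk
    have h2 := rel_of cs hk'
    rw [e] at h1
    rw [e'] at h2
    exact h1.trans h2.symm) f hf hn
  have hidx := index_of_tbl hG L hd Tb (show 0 < Fintype.card K by omega) (q := Fintype.card K) hcX
  rw [sum_OO isTy_E6, cnt_E6] at hidx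
  have hpq : ¬ p ∣ Fintype.card K := by
    intro h
    obtain ⟨n, -, hn⟩ := FiniteField.card K r
    rw [hn] at h
    exact hrp ((Nat.prime_dvd_prime_iff_eq hpp.out hr.out).1 (hpp.out.dvd_of_dvd_pow h)).symm
  have hp : p ∣ (PS (TT chevE6 K) (XX chevE6 6 K) (Ge cs isTy_E6.isCartan (vec chevE6 6 71))).index := by
    rw [hidx]
    refine idx_dvd hpp.out hq2 hpq hq h5 (poly_E6 (by omega)) ?_
    rw [← Cfsg.Agent.S1063.result rfl]
    exact dvd_mul_of_dvd_right hpS _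
  refine ⟨_, hp, ?_, Q, h1, h2, h3⟩
  intro h4
  rw [h4, Subgroup.index_top] at hp
  exact hpp.out.one_lt.ne' (Nat.dvd_one.1 hp)

/-- **`E₆(q)`**: the hypothesis of `extB_of_perm` -/
theorem perm_E6 {S : Type u} [Group S] [Finite S] [IsSimpleGroup S] {p : ℕ} [Fact p.Prime] {r : ℕ} [Fact r.Prime]
    {F : Type} [Field F] [Fintype F] [CharP F r] (hrp : r ≠ p) (hq : ¬ p ∣ Fintype.card F - 1)
    (h5 : ¬ p ∣ Fintype.card F ^ 5 - 1) (hpS : p ∣ Nat.card S) (e : Nonempty (S ≃* Lie.chevE6.group F)) :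
    H326.EB.PermHyp p S := by
  intro A _ _ f hf hn _ _
  obtain ⟨e⟩ := e
  have hr : (f.comp e.symm.toMonoidHom).range = f.range := by
    ext a
    constructor
    · rintro ⟨s, rfl⟩
      exact ⟨e.symm s, rfl⟩
    · rintro ⟨s, rfl⟩
      exact ⟨e s, by show f (e.symm (e s)) = f s; rw [MulEquiv.symm_apply_apply]⟩
  rw [Nat.card_congr e.toEquiv] at hpS
  have : Nontrivial ↥(Lie.chevE6.group F) := e.symm.toEquiv.nontrivial
  have : IsSimpleGroup ↥(Lie.chevE6.group F) :=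
    IsSimpleGroup.isSimpleGroup_of_surjective e.toMonoidHom e.surjective
  exact H326.EB.transport e f (core_E6 hrp hq h5 hpS _ (hf.comp e.symm.injective) (by rw [hr]; exact hn))

/-- **EX2**, with `extB_of_perm` as a hypothesis -/
theorem extB_E6_of {S : Type u} [Group S] [Finite S] [IsSimpleGroup S] {p : ℕ} [Fact p.Prime] {M : Ideal AlgInt}
    (hE : H326.EB.PermHyp p S → H508.KB.ExtB p M S) {r : ℕ} [Fact r.Prime] {F : Type} [Field F]
    [Fintype F] [CharP F r] (hrp : r ≠ p) (hq : ¬ p ∣ Fintype.card F - 1) (h5 : ¬ p ∣ Fintype.card F ^ 5 - 1)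
    (hpS : p ∣ Nat.card S) (e : Nonempty (S ≃* Lie.chevE6.group F)) :
    H508.KB.ExtB p M S := hE (perm_E6 hrp hq h5 hpS e)

end Cfsg.Agent.H112.EB
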