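import Cfsg.Agent.H112.EB.Cells

/-!
# The hypothesis of `extB_of_perm` for the normaliser of a long root group (helper112, for S4822)

* `exists_aut` : conjugation by an element of an overgroup as an automorphism;
* `ext_of` : `Y` normal in `A`, `X r = C_Y(U)`: the normaliser `Q` of `X r` in `A` has `Q ∩ Y = P`, `Y Q = A`, and fixes
  the double cosets of `P` in `Y`.
-/

set_option autoImplicit false
set_option linter.unusedSectionVars false

namespace Cfsg.Agent.H112.EB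

open CoxeterSystem Cfsg.Agent.ChevalleyStructure.CoxeterGeom Cfsg.Agent.Tits.Roots Cfsg.Agent.Tits.Core
  Cfsg.Agent.Tits.Exchange Cfsg.Agent.Nodes.Reps Cfsg.Agent.Nodes.BNOf Cfsg.Agent.Nodes.StabComb
  Cfsg.Agent.Nodes.Bruhat Cfsg.Agent.Nodes.OppDec Cfsg.Agent.Nodes.PosPair Cfsg.Agent.Nodes.Coroot
  Cfsg.Agent.KFacts.RgdPar Cfsg.Agent.KFacts.RgdSL Cfsg.Agent.KFacts.RgdTI Cfsg.Agent.Nodes.LeviDec
  Cfsg.Agent.H400.TwoExc Cfsg.Agent.H620.ExcIndex Cfsg.Agent.KFacts.RgdAut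

theorem exists_aut {Y A : Type*} [Group Y] [Group A] (f : Y →* A) (hf : Function.Injective f) (hn : f.range.Normal)
    (a : A) : ∃ α : MulAut Y, ∀ y, f (α y) = a * f y * a⁻¹ := by
  let e : Y ≃* ↥f.range := MonoidHom.ofInjective hf
  obtain ⟨β, hβ⟩ : ∃ β : MulAut ↥f.range, ∀ k : ↥f.range, ((β k : ↥f.range) : A) = a * k * a⁻¹ :=
    ⟨MulAut.conjNormal a, fun k => rfl⟩
  refine ⟨(e.trans β).trans e.symm, fun y => ?_⟩
  have h1 : f (e.symm (β (e y))) = ((e (e.symm (β (e y))) : ↥f.range) : A) := rfl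
  have h2 : ((e y : ↥f.range) : A) = f y := rfl
  show f (e.symm (β (e y))) = _
  rw [h1, MulEquiv.apply_symm_apply, hβ, h2]

variable {I W Y : Type*} [Fintype I] [DecidableEq I] [Group W] [Group Y] {M : CoxeterMatrix I}
  {cs : CoxeterSystem M W} {C : I → I → ℤ} {h : IsCartan M C} {p : ℕ} {T : Subgroup Y} {n : I → Y}
  {X : (I → ℤ) → Subgroup Y} {R : RGD cs h p T n X} [Finite W] [Finite Y]
  {r : I → ℤ} {O : Finset (I → ℤ)} {wt : I → ℕ} {K : (I → ℤ) → ℕ} [hp : Fact p.Prime]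

theorem exists_fix (R : RGD cs h p T n X) (hG : GG cs h T X = ⊤)
    (hZ : ∀ c : Y, (∀ u ∈ RGD.Sup X (RGD.Pos cs h), c * u = u * c) ↔ c ∈ X r) (φ : MulAut Y) :
    ∃ g : Y, Fix (MulAut.conj g⁻¹ * φ) (X r) := by
  obtain ⟨S, hS⟩ := Cfsg.Agent.KFacts.RgdAutFacts.exists_sylow R hG
  obtain ⟨g, hg⟩ := Cfsg.Agent.KFacts.RgdAutFacts.sylow_eq_cj R hG (φ • S)
  refine ⟨g, ?_⟩
  have hfix : Fix (MulAut.conj g⁻¹ * φ) (RGD.Sup X (RGD.Pos cs h)) := by
    intro y
    have e1 : φ y ∈ ((φ • S : Sylow p Y) : Subgroup Y) ↔ y ∈ (S : Subgroup Y) := by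
      rw [Sylow.pointwise_smul_def, Subgroup.mem_pointwise_smul_iff_inv_smul_mem]
      have : φ⁻¹ • φ y = y := MulAut.inv_apply_self _ φ y
      rw [this]
    rw [hg, hS, mem_cj] at e1
    rw [MulAut.mul_apply, MulAut.conj_apply, inv_inv]
    exact e1
  have key : ∀ β : MulAut Y, Fix β (RGD.Sup X (RGD.Pos cs h)) → ∀ c, c ∈ X r → β c ∈ X r := by
    intro β hβ c hc
    rw [← hZ] at hc ⊢
    intro u hu
    have h1 := hc (β⁻¹ u) ((hβ.inv u).2 hu)
    have h2 := congrArg β h1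
    rwa [map_mul, map_mul, MulAut.apply_inv_self] at h2
  intro c
  refine ⟨fun hc => ?_, key _ hfix c⟩
  have := key _ hfix.inv _ hc
  rwa [MulAut.inv_apply_self] at this

/-- the normaliser of `X r` in an overgroup -/
theorem ext_of (hG : GG cs h T X = ⊤) (L : LR R r) (hd : ∀ i, 0 ≤ cpr cs h (sr i) r)
    (hZ : ∀ c : Y, (∀ u ∈ RGD.Sup X (RGD.Pos cs h), c * u = u * c) ↔ c ∈ X r)
    (D : Tbl cs h r O wt K) {q : ℕ} (hq : 1 < q) (hwt : ∀ i, Nat.card (X (sr i)) = q ^ wt i)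
    (H1 : ∀ s ∈ O, cpr cs h s r ≠ 0 → ∃ s₀ ∈ O, Rel cs h r s s₀ ∧ ∀ s' ∈ O, K s' = K s₀ → s' = s₀)
    (H2 : ∀ s ∈ O, ∀ s' ∈ O, cpr cs h s r = 0 → cpr cs h s' r = 0 → Rel cs h r s s')
    {A : Type*} [Group A] (f : Y →* A) (hf : Function.Injective f) (hn : f.range.Normal) :
    ∃ Q : Subgroup A, Q.comap f = PS T X (Ge cs h r) ∧ f.range ⊔ Q = ⊤ ∧
      ∀ s : Y, ∀ y ∈ Q, ∃ x₁ ∈ PS T X (Ge cs h r), ∃ x₂ ∈ PS T X (Ge cs h r), ∃ s' : Y,
        f s' = y * f s * y⁻¹ ∧ s' = x₁ * s * x₂ := by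
  have hN : Subgroup.normalizer (X r : Set Y) = PS T X (Ge cs h r) := by
    rw [← L.normalizer, hG, inf_top_eq]
  -- the elements of `Q`
  have hQ : ∀ (a : A) (α : MulAut Y), (∀ y, f (α y) = a * f y * a⁻¹) →
      (a ∈ Subgroup.normalizer (((X r).map f : Subgroup A) : Set A) ↔ Fix α (X r)) := by
    intro a α hα
    rw [Subgroup.mem_normalizer_iff]
    constructor
    · intro H y
      have h1 := H (f y)
      rw [← hα] at h1
      have h2 : ∀ z, f z ∈ (X r).map f ↔ z ∈ X r := fun z => Subgroup.mem_map_iff_mem hf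
      rw [h2, h2] at h1
      exact h1.symm
    · intro H z
      have h2 : ∀ z, f z ∈ (X r).map f ↔ z ∈ X r := fun z => Subgroup.mem_map_iff_mem hf
      constructor
      · rintro ⟨y, hy, rfl⟩
        rw [← hα, h2, H]
        exact hy
      · rintro ⟨y, hy, hyz⟩
        have h3 : f y = f (α (α⁻¹ y)) := by rw [MulAut.apply_inv_self]
        rw [h3, hα] at hyz
        have h4 : z = f (α⁻¹ y) := by
          have h5 : a * f (α⁻¹ y) * a⁻¹ = a * z * a⁻¹ := hyz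
          exact (mul_left_cancel (mul_right_cancel h5)).symm
        rw [h4, h2]
        exact (H.inv y).2 hy
  refine ⟨Subgroup.normalizer (((X r).map f : Subgroup A) : Set A), ?_, ?_, ?_⟩
  · ext y
    rw [Subgroup.mem_comap, hQ (f y) (MulAut.conj y) (fun z => by
      rw [MulAut.conj_apply, map_mul, map_mul, map_inv]), ← hN, Subgroup.mem_normalizer_iff]
    constructor
    · intro H z
      exact (H z).symm
    · intro H z
      exact (H z).symm
  · rw [eq_top_iff]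
    intro a _
    obtain ⟨α, hα⟩ := exists_aut f hf hn a
    obtain ⟨g, hg⟩ := exists_fix R hG hZ α
    have h1 : (f g)⁻¹ * a ∈ Subgroup.normalizer (((X r).map f : Subgroup A) : Set A) := by
      rw [hQ _ (MulAut.conj g⁻¹ * α) (fun y => ?_)]
      · exact hg
      · rw [MulAut.mul_apply, MulAut.conj_apply, map_mul, map_mul, map_inv, inv_inv, hα]
        group
    have h2 : a = f g * ((f g)⁻¹ * a) := by group
    rw [h2]
    exact mul_mem (Subgroup.mem_sup_left ⟨g, rfl⟩) (Subgroup.mem_sup_right h1)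
  · intro s y hy
    obtain ⟨α, hα⟩ := exists_aut f hf hn y
    obtain ⟨x₁, h1, x₂, h2, e⟩ := dcoset_stable' hG L hd D hq hwt H1 H2 α ((hQ y α hα).1 hy) s
    exact ⟨x₁, h1, x₂, h2, α s, hα s, e⟩

end Cfsg.Agent.H112.EB
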